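import Mathlib.RingTheory.Valuation.ValuationRing
import Mathlib.FieldTheory.IsAlgClosed.AlgebraicClosure
import Mathlib.RingTheory.Localization.Integral
import Mathlib.RingTheory.TensorProduct.Free
import Mathlib.RingTheory.Nilpotent.Lemmas
import Mathlib.RingTheory.DedekindDomain.IntegralClosure
import Mathlib.RingTheory.Bezout
import Mathlib.RingTheory.IntegralClosure.IntegrallyClosed
import Mathlib.FieldTheory.Extension
import Mathlib.Algebra.GCDMonoid.IntegrallyClosed

/-! # Integral closure and dense extensions of valuation rings -/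

set_option autoImplicit false
set_option linter.style.haveILetI false

universe u

open TensorProduct Polynomial

namespace Groth.L05.DenseBC

variable (A K L A' K' : Type u) [CommRing A] [IsDomain A] [ValuationRing A] [Field K] [Algebra A K]
    [IsFractionRing A K] [Field L] [Algebra K L] [FiniteDimensional K L] [Algebra A L] [IsScalarTower A K L]
    [CommRing A'] [IsDomain A'] [ValuationRing A'] [Field K'] [Algebra A' K'] [IsFractionRing A' K']
    [Algebra A A'] [IsLocalHom (algebraMap A A')] [Algebra K K'] [Algebra A K'] [IsScalarTower A A' K']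
    [IsScalarTower A K K']

omit [FiniteDimensional K L] in
include L in
theorem mem_of_map_mem (hinj : Function.Injective (algebraMap A A')) (q : K) (c : A')
    (h : algebraMap K K' q = algebraMap A' K' c) : ∃ a : A, algebraMap A K a = q := by
  obtain ⟨a, ha⟩ | ⟨a, ha⟩ := ValuationRing.isInteger_or_isInteger A q
  · exact ⟨a, ha⟩
  by_cases hq : q = 0
  · exact ⟨0, by rw [hq, map_zero]⟩
  have h1 : algebraMap A A' a * c = 1 := by
    apply IsFractionRing.injective A' K'
    rw [map_mul, map_one, ← IsScalarTower.algebraMap_apply, IsScalarTower.algebraMap_apply A K K', ha, ← h,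
      ← map_mul, inv_mul_cancel₀ hq, map_one]
  obtain ⟨v, hv⟩ := (isUnit_of_map_unit (algebraMap A A') a (IsUnit.of_mul_eq_one c h1)).exists_left_inv
  refine ⟨v, ?_⟩
  have h2 : algebraMap A K v * q⁻¹ = 1 := by rw [← ha, ← map_mul, hv, map_one]
  rw [← mul_one (algebraMap A K v), ← inv_mul_cancel₀ hq, ← mul_assoc, h2, one_mul]

include L in
omit [FiniteDimensional K L] in
theorem exists_approx (hinj : Function.Injective (algebraMap A A'))
    (hdense : ∀ a' b' : A', b' ≠ 0 → ∃ a : A, b' ∣ a' - algebraMap A A' a) (k : K') :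
    ∃ (q : K) (δ : A'), k = algebraMap K K' q + algebraMap A' K' δ := by
  obtain ⟨x, y, hy, rfl⟩ := IsFractionRing.div_surjective (A := A') k
  have hy0 : y ≠ 0 := nonZeroDivisors.ne_zero hy
  obtain ⟨b, u, hu⟩ : ∃ (b : A) (u : A'ˣ), algebraMap A A' b = y * u := by
    by_cases hyu : IsUnit y
    · obtain ⟨u, rfl⟩ := hyu
      exact ⟨1, u⁻¹, by rw [map_one, Units.mul_inv]⟩
    · obtain ⟨b, t, ht⟩ := hdense y (y * y) (mul_ne_zero hy0 hy0)
      have h1 : IsUnit (1 - y * t) := IsLocalRing.isUnit_one_sub_self_of_mem_nonunits _ fun h =>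
        hyu (isUnit_of_mul_isUnit_left h)
      obtain ⟨u, hu⟩ := h1
      exact ⟨b, u, by rw [hu]; linear_combination (-ht)⟩
  have hb0 : algebraMap A A' b ≠ 0 := by rw [hu]; exact mul_ne_zero hy0 u.ne_zero
  obtain ⟨a, t, ht⟩ := hdense (x * u) (algebraMap A A' b) hb0
  refine ⟨algebraMap A K a / algebraMap A K b, t, ?_⟩
  rw [map_div₀, ← IsScalarTower.algebraMap_apply, ← IsScalarTower.algebraMap_apply,
    IsScalarTower.algebraMap_apply A A' K' a, IsScalarTower.algebraMap_apply A A' K' b]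
  have hb' : algebraMap A' K' (algebraMap A A' b) ≠ 0 := (map_ne_zero_iff _ (IsFractionRing.injective A' K')).mpr hb0
  have hyK : algebraMap A' K' y ≠ 0 := (map_ne_zero_iff _ (IsFractionRing.injective A' K')).mpr hy0
  rw [div_add' _ _ _ hb', div_eq_div_iff hyK hb', ← map_mul, ← map_mul, ← map_add, ← map_mul]
  refine congrArg _ ?_
  linear_combination y * ht + x * hu

include A' K' in
theorem isIntegral_of_image (hinj : Function.Injective (algebraMap A A')) (l : L)
    (h : ((Ideal.Quotient.mk (nilradical (K' ⊗[K] L))).comp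
      ((Algebra.TensorProduct.includeLeft : K' →ₐ[K] K' ⊗[K] L).toRingHom.comp
        (algebraMap A' K'))).IsIntegralElem (Ideal.Quotient.mk _ ((1 : K') ⊗ₜ[K] l))) :
    IsIntegral A l := by
  classical
  obtain ⟨P, hP, hPl⟩ := h
  let Ω := AlgebraicClosure K'
  let g := minpoly K l
  have hl : IsIntegral K l := IsIntegral.of_finite K l
  let S := integralClosure A' Ω
  have hroot : ∀ ρ ∈ g.aroots Ω, ρ ∈ S := by
    intro ρ hρ
    obtain ⟨φ, hφ⟩ : ∃ φ : L →ₐ[K] Ω, φ l = ρ :=
      (Polynomial.mem_aroots.mp hρ).2 |> fun h =>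
        IntermediateField.exists_algHom_of_splits_of_aeval (fun s => ⟨IsIntegral.of_finite K s, IsAlgClosed.splits _⟩) h
    let Φ : K' ⊗[K] L →ₐ[K] Ω :=
      Algebra.TensorProduct.lift (IsScalarTower.toAlgHom K K' Ω) φ fun _ _ => Commute.all _ _
    have hn : ∀ z ∈ nilradical (K' ⊗[K] L), Φ.toRingHom z = 0 := fun z hz =>
      IsNilpotent.eq_zero ((mem_nilradical.mp hz).map Φ)
    let Φ' := Ideal.Quotient.lift (nilradical (K' ⊗[K] L)) Φ.toRingHom hn
    refine ⟨P, hP, ?_⟩
    have h1 := congrArg Φ' hPl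
    rw [map_zero, hom_eval₂] at h1
    have h2 : Φ'.comp ((Ideal.Quotient.mk (nilradical (K' ⊗[K] L))).comp
        ((Algebra.TensorProduct.includeLeft : K' →ₐ[K] K' ⊗[K] L).toRingHom.comp (algebraMap A' K'))) =
        algebraMap A' Ω := by
      ext a
      show Φ ((algebraMap A' K' a) ⊗ₜ[K] (1 : L)) = algebraMap A' Ω a
      rw [Algebra.TensorProduct.lift_tmul, map_one, mul_one]
      rfl
    rw [h2] at h1
    have h3 : Φ' (Ideal.Quotient.mk _ ((1 : K') ⊗ₜ[K] l)) = ρ := by
      show Φ ((1 : K') ⊗ₜ[K] l) = ρ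
      rw [Algebra.TensorProduct.lift_tmul, map_one, one_mul, hφ]
    rwa [h3] at h1
  have hlift : g.map (algebraMap K Ω) ∈ Polynomial.lifts (algebraMap S Ω) := by
    rw [((IsAlgClosed.splits (g.map (algebraMap K Ω))).eq_prod_roots_of_monic ((minpoly.monic hl).map _))]
    refine Subsemiring.multiset_prod_mem _ _ fun p hp => ?_
    obtain ⟨ρ, hρ, rfl⟩ := Multiset.mem_map.mp hp
    refine (Polynomial.lifts_iff_coeff_lifts _).mpr fun n => ?_
    rw [coeff_sub, coeff_X, coeff_C]
    have hρS : ρ ∈ S := hroot ρ hρ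
    exact ⟨(if 1 = n then 1 else 0) - (if n = 0 then ⟨ρ, hρS⟩ else 0), by split_ifs <;> simp⟩
  have hcoeff : ∀ n, ∃ a : A, algebraMap A K a = g.coeff n := by
    intro n
    obtain ⟨s, hs⟩ := (Polynomial.lifts_iff_coeff_lifts _).mp hlift n
    rw [coeff_map, IsScalarTower.algebraMap_apply K K' Ω] at hs
    have h1 : IsIntegral A' (algebraMap K K' (g.coeff n)) := by
      rw [← isIntegral_algebraMap_iff (algebraMap K' Ω).injective, ← hs]
      exact s.2
    obtain ⟨c, hc⟩ := IsIntegrallyClosed.isIntegral_iff.mp h1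
    exact mem_of_map_mem A K L A' K' hinj _ c hc.symm
  obtain ⟨g₀, hg₀, -, hg₀m⟩ := Polynomial.lifts_and_natDegree_eq_and_monic
    ((Polynomial.lifts_iff_coeff_lifts g).mpr fun n => hcoeff n) (minpoly.monic hl)
  refine ⟨g₀, hg₀m, ?_⟩
  rw [← aeval_def, ← aeval_map_algebraMap K l g₀, hg₀]
  exact minpoly.aeval K l

theorem result (hinj : Function.Injective (algebraMap A A'))
    (hdense : ∀ a' b' : A', b' ≠ 0 → ∃ a : A, b' ∣ a' - algebraMap A A' a)
    (x : (K' ⊗[K] L) ⧸ nilradical (K' ⊗[K] L))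
    (hx : ((Ideal.Quotient.mk (nilradical (K' ⊗[K] L))).comp
            ((Algebra.TensorProduct.includeLeft : K' →ₐ[K] K' ⊗[K] L).toRingHom.comp (algebraMap A' K'))).IsIntegralElem x) :
    ∃ (n : ℕ) (a : Fin n → A') (l : Fin n → L), (∀ i, IsIntegral A (l i)) ∧
      x = Ideal.Quotient.mk (nilradical (K' ⊗[K] L)) (∑ i, algebraMap A' K' (a i) ⊗ₜ[K] l i) := by
  classical
  set f := (Ideal.Quotient.mk (nilradical (K' ⊗[K] L))).comp
    ((Algebra.TensorProduct.includeLeft : K' →ₐ[K] K' ⊗[K] L).toRingHom.comp (algebraMap A' K')) with hf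
  obtain ⟨z, rfl⟩ := Ideal.Quotient.mk_surjective x
  -- an integral basis
  obtain ⟨s, b, hb⟩ := FiniteDimensional.exists_is_basis_integral A K L
  let bT := Algebra.TensorProduct.basis K' b
  have hk : ∀ i, ∃ (q : K) (δ : A'), bT.repr z i = algebraMap K K' q + algebraMap A' K' δ := fun i =>
    exists_approx A K L A' K' hinj hdense _
  choose q δ hqδ using hk
  let l₀ : L := ∑ i, q i • b i
  have hz : z = ∑ i, algebraMap A' K' (δ i) ⊗ₜ[K] b i + (1 : K') ⊗ₜ[K] l₀ := by
    conv_lhs => rw [← bT.sum_repr z]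
    rw [TensorProduct.tmul_sum, ← Finset.sum_add_distrib]
    refine Finset.sum_congr rfl fun i _ => ?_
    rw [hqδ, Algebra.TensorProduct.basis_apply, smul_tmul', smul_eq_mul, mul_one, add_tmul, add_comm,
      Algebra.algebraMap_eq_smul_one (R := K) (A := K'), TensorProduct.smul_tmul]
  have hsum : f.IsIntegralElem (Ideal.Quotient.mk _ (∑ i, algebraMap A' K' (δ i) ⊗ₜ[K] b i)) := by
    letI : Algebra A' ((K' ⊗[K] L) ⧸ nilradical (K' ⊗[K] L)) := f.toAlgebra
    show IsIntegral A' _
    rw [map_sum]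
    refine IsIntegral.sum _ fun i _ => ?_
    rw [show algebraMap A' K' (δ i) ⊗ₜ[K] b i = (algebraMap A' K' (δ i) ⊗ₜ[K] (1 : L)) * ((1 : K') ⊗ₜ[K] b i) by
      rw [Algebra.TensorProduct.tmul_mul_tmul, mul_one, one_mul], map_mul]
    refine IsIntegral.mul (isIntegral_algebraMap (x := δ i)) ?_
    obtain ⟨p, hp, hpb⟩ := hb i
    refine ⟨p.map (algebraMap A A'), hp.map _, ?_⟩
    let ι : L →+* (K' ⊗[K] L) ⧸ nilradical (K' ⊗[K] L) :=
      (Ideal.Quotient.mk _).comp (Algebra.TensorProduct.includeRight : L →ₐ[K] K' ⊗[K] L).toRingHom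
    rw [eval₂_map, show (algebraMap A' ((K' ⊗[K] L) ⧸ nilradical (K' ⊗[K] L))).comp (algebraMap A A') =
      ι.comp (algebraMap A L) by
        ext a
        show Ideal.Quotient.mk _ (algebraMap A' K' (algebraMap A A' a) ⊗ₜ[K] (1 : L)) =
          Ideal.Quotient.mk _ ((1 : K') ⊗ₜ[K] algebraMap A L a)
        rw [← IsScalarTower.algebraMap_apply A A' K', IsScalarTower.algebraMap_apply A K K',
          IsScalarTower.algebraMap_apply A K L, Algebra.algebraMap_eq_smul_one, TensorProduct.smul_tmul,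
          ← Algebra.algebraMap_eq_smul_one]]
    exact (hom_eval₂ p (algebraMap A L) ι (b i)).symm.trans (by rw [hpb, map_zero])
  have hl : IsIntegral A l₀ := by
    refine isIntegral_of_image A K L A' K' hinj l₀ ?_
    letI : Algebra A' ((K' ⊗[K] L) ⧸ nilradical (K' ⊗[K] L)) := f.toAlgebra
    have h1 : Ideal.Quotient.mk (nilradical (K' ⊗[K] L)) ((1 : K') ⊗ₜ[K] l₀) =
        Ideal.Quotient.mk _ z - Ideal.Quotient.mk _ (∑ i, algebraMap A' K' (δ i) ⊗ₜ[K] b i) := by
      rw [hz, map_add, add_sub_cancel_left]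
    rw [← hf, h1]
    exact IsIntegral.sub hx hsum
  let e := Fintype.equivFin (Option {y // y ∈ s})
  refine ⟨_, fun j => (e.symm j).elim 1 δ, fun j => (e.symm j).elim l₀ (fun i => b i), fun j => ?_, ?_⟩
  · show IsIntegral A ((e.symm j).elim l₀ fun i => b i)
    rcases e.symm j with _ | i
    · exact hl
    · exact hb i
  · congr 1
    rw [e.symm.sum_comp (fun o => algebraMap A' K' (o.elim 1 δ) ⊗ₜ[K] o.elim l₀ (fun i => b i)),
      Fintype.sum_option, hz]
    simp [add_comm]

end Groth.L05.DenseBC
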